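import Cfsg.Agent.Spor.LyB.D0

set_option autoImplicit false
set_option maxRecDepth 100000000
set_option Elab.async false

namespace Cfsg.Agent.Spor.LyB

theorem TU1ok : PA.gensOk LyE.A TU1 2 = true := by decide +kernel

theorem tw1 : allN (fun j => PA.isW LyE.A LyE.TT (nth [] [[0, 3, 5, 1, 3, 3, 5, 3, 5, 1], [5, 0, 5, 0, 5, 0, 2, 4, 0, 3]] j) (nth LyE.A.one TU1 (2 * j))) 2 = true := by decide +kernel

theorem TU3ok : PA.gensOk LyE.A TU3 2 = true := by decide +kernel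

theorem tw3 : allN (fun j => PA.isW LyE.A LyE.TT (nth [] [[6, 1, 4, 3, 3, 4, 6, 4, 0, 5, 0, 4, 3, 6], [5, 7, 5, 0, 5, 0, 4, 6, 3, 5, 5, 2, 7]] j) (nth LyE.A.one TU3 (2 * j))) 2 = true := by decide +kernel

theorem TU4ok : PA.gensOk LyE.A TU4 2 = true := by decide +kernel

theorem tw4 : allN (fun j => PA.isW LyE.A LyE.TT (nth [] [[3, 3, 0, 4, 7, 3, 0, 2, 4, 2, 1, 5, 2, 5, 6], [4, 6, 5, 5, 1, 5, 1, 3, 3, 1, 2, 7, 5, 5, 7]] j) (nth LyE.A.one TU4 (2 * j))) 2 = true := by decide +kernel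

theorem TU5ok : PA.gensOk LyE.A TU5 2 = true := by decide +kernel

theorem tw5 : allN (fun j => PA.isW LyE.A LyE.TT (nth [] [[4, 3, 5, 1, 5, 1, 5, 7, 4, 1, 3, 4, 7, 5, 1, 4], [5, 6, 4, 2, 2, 4, 4, 6, 0, 4, 0, 4, 0, 3]] j) (nth LyE.A.one TU5 (2 * j))) 2 = true := by decide +kernel

theorem eaz1 : leq GSz1 (PA.evs LyE.A TU1 [[3, 0, 3, 0, 0, 3], [0, 0, 2, 1, 2, 2, 0, 2, 2, 1], [0, 2, 1, 2, 1, 3, 3, 1, 3, 3]]) = true := by decide +kernel

theorem ebz1 : PA.enum LyE.A TLz1 GSz1 [0, 0, 0, 1, 0, 2, 1, 0, 1, 1, 1, 2, 2, 0, 2, 1, 2, 2, 3, 0, 3, 1, 4, 0, 4, 1, 4, 2, 5, 0, 5, 1, 5, 2, 6, 0, 7, 2, 8, 2, 12, 0, 12, 1, 12, 2, 13, 0, 14, 0, 15, 2, 19, 0, 21, 0, 21, 1, 21, 2, 24, 2] = true := by decide +kernel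

theorem ecz1 : PA.closed LyE.A TLz1 GSz1 = true := by decide +kernel

theorem edz1 : band (nodup TLz1) (band (lall (PA.bd LyE.A) TLz1) (Nat.beq (llen TLz1) 32)) = true := by decide +kernel

theorem eez1 : band (PA.isW LyE.A LyE.TT [0, 0, 0, 0] (nat_lit 0x4000000000000040000000000000100000000000001000000000000040000000000000100000000000004)) (band (Nat.beq (PA.pw LyE.A (nat_lit 0x4000000000000040000000000000100000000000001000000000000040000000000000100000000000004) 2) LyE.A.one) (band (leq HLz1 (PA.evs LyE.A LyE.TT [[7, 5, 1, 2, 5, 6, 0, 4], [5, 3, 0, 2, 2, 4], [7, 2, 0, 5, 6, 4, 1, 3, 4, 0, 4]])) (PA.cls LyE.A (nat_lit 0x4000000000000040000000000000100000000000001000000000000040000000000000100000000000004) 2 TLz1 HLz1 TLz1 [0, 0, 1, 0, 2, 0, 0, 1, 0, 2, 1, 2, 5, 0]))) = true := by decide +kernel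

theorem eaz3 : leq GSz3 (PA.evs LyE.A TU3 [[0, 0, 2, 1, 3], [0, 0, 0, 3, 0, 3, 0, 3], [1, 1, 2, 1, 1, 2]]) = true := by decide +kernel

theorem ebz3 : PA.enum LyE.A TLz3 GSz3 [0, 0, 0, 1, 0, 2, 1, 0, 1, 1, 1, 2, 2, 0, 2, 1, 2, 2, 3, 0, 3, 2, 4, 0, 4, 1, 4, 2, 5, 1, 5, 2, 6, 0, 6, 2, 8, 1, 8, 2, 9, 0, 10, 2, 11, 0, 12, 2, 13, 1, 13, 2, 14, 0, 16, 0, 19, 2, 22, 2, 23, 2] = true := by decide +kernel

theorem ecz3 : PA.closed LyE.A TLz3 GSz3 = true := by decide +kernel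

theorem edz3 : band (nodup TLz3) (band (lall (PA.bd LyE.A) TLz3) (Nat.beq (llen TLz3) 32)) = true := by decide +kernel

theorem eez3 : band (PA.isW LyE.A LyE.TT [0, 0, 0, 0] (nat_lit 0x4000000000000040000000000000100000000000001000000000000040000000000000100000000000004)) (band (Nat.beq (PA.pw LyE.A (nat_lit 0x4000000000000040000000000000100000000000001000000000000040000000000000100000000000004) 2) LyE.A.one) (band (leq HLz3 (PA.evs LyE.A LyE.TT [[4, 1, 2, 2, 5, 7, 3, 5, 1, 4], [6, 5, 3, 4, 4, 6, 4, 6, 2, 4], [6, 5, 6, 5, 0, 5, 3, 5, 6, 2, 2, 4]])) (PA.cls LyE.A (nat_lit 0x4000000000000040000000000000100000000000001000000000000040000000000000100000000000004) 2 TLz3 HLz3 TLz3 [0, 0, 0, 1, 1, 0, 0, 2, 1, 2, 5, 0, 2, 0]))) = true := by decide +kernel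

theorem eaz4 : leq GSz4 (PA.evs LyE.A TU4 [[0, 2, 2, 1, 1], [2, 2, 0, 2], [1, 2, 1, 1, 2], [0, 2, 1, 2]]) = true := by decide +kernel

theorem ebz4 : PA.enum LyE.A TLz4 GSz4 [0, 0, 0, 1, 0, 2, 0, 3, 1, 0, 1, 1, 1, 2, 1, 3, 2, 0, 2, 2, 2, 3, 3, 0, 3, 1, 3, 3, 4, 0, 4, 1, 4, 2, 5, 0, 5, 1, 5, 2, 5, 3, 6, 0, 6, 2, 6, 3, 7, 0, 7, 1, 7, 3, 8, 0, 8, 1, 9, 0, 9, 3, 10, 0, 11, 0, 11, 1, 11, 2, 12, 2, 14, 2, 15, 0, 16, 0, 17, 1, 18, 0, 18, 2, 18, 3, 19, 0, 19, 3, 20, 0, 20, 1, 20, 3, 21, 1, 22, 0, 22, 3, 24, 0, 24, 2, 27, 2, 30, 1, 30, 2, 31, 0, 34, 0, 41, 0, 41, 2, 41, 3, 42, 1, 45, 0] = true := by decide +kernel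

theorem ecz4 : PA.closed LyE.A TLz4 GSz4 = true := by decide +kernel

theorem edz4 : band (nodup TLz4) (band (lall (PA.bd LyE.A) TLz4) (Nat.beq (llen TLz4) 64)) = true := by decide +kernel

theorem eez4 : band (PA.isW LyE.A LyE.TT [0, 0, 0, 0] (nat_lit 0x4000000000000040000000000000100000000000001000000000000040000000000000100000000000004)) (band (Nat.beq (PA.pw LyE.A (nat_lit 0x4000000000000040000000000000100000000000001000000000000040000000000000100000000000004) 2) LyE.A.one) (band (leq HLz4 (PA.evs LyE.A LyE.TT [[3, 4, 4, 3, 4, 6, 3, 5, 1, 4], [1, 5, 3, 0, 2, 2, 4, 6, 0, 4], [0, 4, 6, 5, 3, 1, 3, 5, 6, 1, 4], [6, 0, 4, 1, 2, 0, 5, 6, 3, 4], [6, 2, 5, 6, 5, 2, 4], [1, 4, 6, 5, 6, 2, 1, 4, 1, 4], [6, 4, 3, 0, 4, 6, 3, 4, 1, 2, 4]])) (PA.cls LyE.A (nat_lit 0x4000000000000040000000000000100000000000001000000000000040000000000000100000000000004) 2 TLz4 HLz4 TLz4 [0, 0, 0, 1, 0, 2, 0, 3,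 1, 2, 1, 3, 3, 0, 0, 4, 5, 0, 8, 0, 21, 0, 1, 1, 3, 4, 0, 5, 1, 0, 2, 5, 4, 0, 2, 1, 1, 4, 4, 4, 1, 5, 0, 6, 5, 3, 15, 3, 5, 1, 14, 0, 6, 5]))) = true := by decide +kernel

theorem eaz5 : leq GSz5 (PA.evs LyE.A TU5 [[0, 3, 3, 0, 3, 3, 3, 0], [0, 2, 0, 2, 0, 2]]) = true := by decide +kernel

theorem ebz5 : PA.enum LyE.A TLz5 GSz5 [0, 0, 0, 1, 1, 0, 1, 1, 2, 0, 3, 0, 3, 1, 5, 0, 5, 1, 6, 0, 6, 1, 8, 0, 8, 1, 10, 0, 10, 1] = true := by decide +kernel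

theorem ecz5 : PA.closed LyE.A TLz5 GSz5 = true := by decide +kernel

theorem edz5 : band (nodup TLz5) (band (lall (PA.bd LyE.A) TLz5) (Nat.beq (llen TLz5) 16)) = true := by decide +kernel

theorem eez5 : band (PA.isW LyE.A LyE.TT [0, 0, 0, 0] (nat_lit 0x4000000000000040000000000000100000000000001000000000000040000000000000100000000000004)) (band (Nat.beq (PA.pw LyE.A (nat_lit 0x4000000000000040000000000000100000000000001000000000000040000000000000100000000000004) 2) LyE.A.one) (band (leq HLz5 (PA.evs LyE.A LyE.TT [[4, 4, 0, 4, 6, 4, 4, 3, 4], [2, 5, 6, 4, 6, 5, 0, 5, 6, 4], [7, 2, 5, 3, 5, 6, 5, 0, 3, 4]])) (PA.cls LyE.A (nat_lit 0x4000000000000040000000000000100000000000001000000000000040000000000000100000000000004) 2 TLz5 HLz5 TLz5 [0, 0, 0, 1, 2, 1, 1, 0, 5, 0, 0, 2, 1, 1, 3, 1, 3, 0]))) = true := by decide +kernel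

theorem cmz : lall (fun w => Nat.beq (PA.evw LyE.A LyE.TT (lapp w [0, 0, 0, 0]) LyE.A.one) (PA.evw LyE.A LyE.TT (lapp [0, 0, 0, 0] w) LyE.A.one)) [[0], [2], [5, 1, 5, 0, 4, 1, 4, 0], [6]] = true := by decide +kernel

theorem bad : band (Nat.beq (PA.evw LyE.A LyE.TT (lapp [5, 1, 5, 0, 4, 1, 4, 0] [0, 0, 0, 0]) LyE.A.one) (PA.evw LyE.A LyE.TT (lapp [0, 0, 0, 0] [5, 1, 5, 0, 4, 1, 4, 0]) LyE.A.one)) (PA.neq LyE.A (PA.evw LyE.A LyE.TT (lapp [5, 1, 5, 0, 4, 1, 4, 0] (invW 0 [5, 6, 1, 3, 4, 6] (lapp [0, 0, 0, 0] [5, 6, 1, 3, 4, 6]))) LyE.A.one) (PA.evw LyE.A LyE.TT (lapp (invW 0 [5, 6, 1, 3, 4, 6] (lapp [0, 0, 0, 0] [5, 6, 1, 3, 4, 6])) [5, 1, 5, 0, 4, 1, 4, 0]) LyE.A.one)) = true := by decide +kernel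

theorem eax1 : leq GSx1 (PA.evs LyE.A TU1 [[0, 0, 2, 1, 3, 3, 0, 3, 0, 0]]) = true := by decide +kernel

theorem ebx1 : PA.enum LyE.A TLx1 GSx1 [0, 0, 1, 0] = true := by decide +kernel

theorem ecx1 : PA.closed LyE.A TLx1 GSx1 = true := by decide +kernel

theorem edx1 : band (nodup TLx1) (band (lall (PA.bd LyE.A) TLx1) (Nat.beq (llen TLx1) 3)) = true := by decide +kernel

theorem eex1 : band (PA.isW LyE.A LyE.TT [1, 3, 0, 2] (nat_lit 0x2020000000001820000000000000408000800000082000800000000020008000080800400000000010002)) (band (Nat.beq (PA.pw LyE.A (nat_lit 0x2020000000001820000000000000408000800000082000800000000020008000080800400000000010002) 3) LyE.A.one) (band (leq HLx1 (PA.evs LyE.A LyE.TT [[5, 2, 5], [5, 2, 5, 0]])) (PA.cls LyE.A (nat_lit 0x2020000000001820000000000000408000800000082000800000000020008000080800400000000010002) 3 TLx1 HLx1 TLx1 [0, 0, 0, 1]))) = true := by decide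 +kernel

theorem eax3 : leq GSx3 (PA.evs LyE.A TU3 [[1, 3, 1, 2, 1, 2, 2], [0, 3, 1, 2, 1, 2, 0], [0, 3, 0, 2]]) = true := by decide +kernel

theorem ebx3 : PA.enum LyE.A TLx3 GSx3 [0, 0, 0, 1, 0, 2, 1, 0, 1, 1, 1, 2, 2, 1, 2, 2, 3, 0, 3, 2, 4, 1, 4, 2, 5, 1, 5, 2, 6, 0, 6, 2, 7, 2, 8, 2, 9, 0, 9, 2, 10, 0, 11, 1, 12, 2, 15, 2, 16, 0, 17, 2] = true := by decide +kernel

theorem ecx3 : PA.closed LyE.A TLx3 GSx3 = true := by decide +kernel

theorem edx3 : band (nodup TLx3) (band (lall (PA.bd LyE.A) TLx3) (Nat.beq (llen TLx3) 27)) = true := by decide +kernel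

theorem eex3 : band (PA.isW LyE.A LyE.TT [1, 3, 0, 2] (nat_lit 0x2020000000001820000000000000408000800000082000800000000020008000080800400000000010002)) (band (Nat.beq (PA.pw LyE.A (nat_lit 0x2020000000001820000000000000408000800000082000800000000020008000080800400000000010002) 3) LyE.A.one) (band (leq HLx3 (PA.evs LyE.A LyE.TT [[0, 4, 2, 2, 0, 3], [3, 1, 5, 2, 0, 3]])) (PA.cls LyE.A (nat_lit 0x2020000000001820000000000000408000800000082000800000000020008000080800400000000010002) 3 TLx3 HLx3 TLx3 [0, 0, 0, 1]))) = true := by decide +kernel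

theorem eax4 : leq GSx4 (PA.evs LyE.A TU4 [[0, 3, 1, 2, 0, 3, 1, 2], [0, 0, 3, 3, 0, 0, 3]]) = true := by decide +kernel

theorem ebx4 : PA.enum LyE.A TLx4 GSx4 [0, 0, 0, 1, 1, 0, 1, 1, 2, 1, 3, 1, 4, 1, 6, 1] = true := by decide +kernel

theorem ecx4 : PA.closed LyE.A TLx4 GSx4 = true := by decide +kernel

theorem edx4 : band (nodup TLx4) (band (lall (PA.bd LyE.A) TLx4) (Nat.beq (llen TLx4) 9)) = true := by decide +kernel

theorem eex4 : band (PA.isW LyE.A LyE.TT [1, 3, 0, 2] (nat_lit 0x2020000000001820000000000000408000800000082000800000000020008000080800400000000010002)) (band (Nat.beq (PA.pw LyE.A (nat_lit 0x2020000000001820000000000000408000800000082000800000000020008000080800400000000010002) 3) LyE.A.one) (band (leq HLx4 (PA.evs LyE.A LyE.TT [[1, 2, 4, 6, 2, 2, 4], [5, 2, 5, 7, 1, 4, 3]])) (PA.cls LyE.A (nat_lit 0x2020000000001820000000000000408000800000082000800000000020008000080800400000000010002)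 3 TLx4 HLx4 TLx4 [0, 0, 0, 1]))) = true := by decide +kernel

theorem eax5 : leq GSx5 (PA.evs LyE.A TU5 [[0, 2, 0, 3, 3, 0, 3, 3, 0, 3], [2, 0, 3, 0, 2]]) = true := by decide +kernel

theorem ebx5 : PA.enum LyE.A TLx5 GSx5 [0, 0, 0, 1, 1, 0, 1, 1, 2, 1, 3, 1, 4, 1, 6, 1] = true := by decide +kernel

theorem ecx5 : PA.closed LyE.A TLx5 GSx5 = true := by decide +kernel

theorem edx5 : band (nodup TLx5) (band (lall (PA.bd LyE.A) TLx5) (Nat.beq (llen TLx5) 9)) = true := by decide +kernel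

theorem eex5 : band (PA.isW LyE.A LyE.TT [1, 3, 0, 2] (nat_lit 0x2020000000001820000000000000408000800000082000800000000020008000080800400000000010002)) (band (Nat.beq (PA.pw LyE.A (nat_lit 0x2020000000001820000000000000408000800000082000800000000020008000080800400000000010002) 3) LyE.A.one) (band (leq HLx5 (PA.evs LyE.A LyE.TT [[0, 2, 5, 0], [0, 2, 5]])) (PA.cls LyE.A (nat_lit 0x2020000000001820000000000000408000800000082000800000000020008000080800400000000010002) 3 TLx5 HLx5 TLx5 [0, 0, 0, 1]))) = true := by decide +kernel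

theorem cmx : lall (fun w => Nat.beq (PA.evw LyE.A LyE.TT (lapp w [1, 3, 0, 2]) LyE.A.one) (PA.evw LyE.A LyE.TT (lapp [1, 3, 0, 2] w) LyE.A.one)) [[2, 0, 3, 0, 3, 3, 1, 3], [3, 4, 3, 4, 2, 2], [6]] = true := by decide +kernel

theorem ca : band (leq LG (PA.evs LyE.A LyE.TT [[0], [2]])) (band (leq CG (PA.evs LyE.A LyE.TT [[2, 0, 3, 0, 3, 3, 1, 3]])) (band (PA.isW LyE.A LyE.TT [1, 3, 0, 2] (nat_lit 0x2020000000001820000000000000408000800000082000800000000020008000080800400000000010002)) (PA.enum LyE.A CC CG [0, 0, 1, 0, 2, 0, 3, 0, 4, 0, 5, 0, 6, 0, 7, 0, 8, 0, 9, 0, 10, 0, 11, 0, 12, 0, 13, 0, 14, 0, 15, 0, 16, 0, 17, 0, 18, 0, 19, 0, 20, 0, 21, 0, 22, 0]))) = true := by decide +kernel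

theorem cb : PA.closed LyE.A LL LG = true := by decide +kernel

theorem cc : PA.cen LyE.A (nat_lit 0x2020000000001820000000000000408000800000082000800000000020008000080800400000000010002) LL CC = true := by decide +kernel

end Cfsg.Agent.Spor.LyB
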