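import Cfsg.Agent.Spor.PX6
import Cfsg.Agent.Spor.LyW.Main
import Cfsg.Agent.Spor.Ly3906.Z.Main
import Cfsg.Agent.Spor.Ly3906.X.Main
import Cfsg.Agent.Spor.Ly3125.Z.Main
import Cfsg.Agent.Spor.Ly3125.X.Main
import Cfsg.Agent.Spor.LyB.C0

set_option autoImplicit false
set_option maxRecDepth 100000000
set_option Elab.async false

namespace Cfsg.Agent.Spor.LyB

open LyK LyR

noncomputable abbrev p : ℕ → Ly3906.P := Ly3906.p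
theorem gU1 : X.Gens TU1 (atm 2 (wv 4 p [[0, 3, 5, 1, 3, 3, 5, 3, 5, 1], [5, 0, 5, 0, 5, 0, 2, 4, 0, 3]])) := gens.words TU1ok tw1
theorem cS1 : Nat.card (wsub 4 p [[0, 3, 5, 1, 3, 3, 5, 3, 5, 1], [5, 0, 5, 0, 5, 0, 2, 4, 0, 3]]) = 300000 :=
  (done LyM.pres).card_S' (LyS.exact LyM.pres LyM.top LyK.lb) (x := (1, [[0, 3, 5, 1, 3, 3, 5, 3, 5, 1], [5, 0, 5, 0, 5, 0, 2, 4, 0, 3]], 300000)) 1 rfl (by norm_num)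
theorem gU3 : X.Gens TU3 (atm 2 (wv 4 p [[6, 1, 4, 3, 3, 4, 6, 4, 0, 5, 0, 4, 3, 6], [5, 7, 5, 0, 5, 0, 4, 6, 3, 5, 5, 2, 7]])) := gens.words TU3ok tw3
theorem cS3 : Nat.card (wsub 4 p [[6, 1, 4, 3, 3, 4, 6, 4, 0, 5, 0, 4, 3, 6], [5, 7, 5, 0, 5, 0, 4, 6, 3, 5, 5, 2, 7]]) = 6048 :=
  (done LyM.pres).card_S' (LyS.exact LyM.pres LyM.top LyK.lb) (x := (3, [[6, 1, 4, 3, 3, 4, 6, 4, 0, 5, 0, 4, 3, 6], [5, 7, 5, 0, 5, 0, 4, 6, 3, 5, 5, 2, 7]], 6048)) 2 rfl (by norm_num)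
theorem gU4 : X.Gens TU4 (atm 2 (wv 4 p [[3, 3, 0, 4, 7, 3, 0, 2, 4, 2, 1, 5, 2, 5, 6], [4, 6, 5, 5, 1, 5, 1, 3, 3, 1, 2, 7, 5, 5, 7]])) := gens.words TU4ok tw4
theorem cS4 : Nat.card (wsub 4 p [[3, 3, 0, 4, 7, 3, 0, 2, 4, 2, 1, 5, 2, 5, 6], [4, 6, 5, 5, 1, 5, 1, 3, 3, 1, 2, 7, 5, 5, 7]]) = 2880 :=
  (done LyM.pres).card_S' (LyS.exact LyM.pres LyM.top LyK.lb) (x := (4, [[3, 3, 0, 4, 7, 3, 0, 2, 4, 2, 1, 5, 2, 5, 6], [4, 6, 5, 5, 1, 5, 1, 3, 3, 1, 2, 7, 5, 5, 7]], 2880)) 3 rfl (by norm_num)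
theorem gU5 : X.Gens TU5 (atm 2 (wv 4 p [[4, 3, 5, 1, 5, 1, 5, 7, 4, 1, 3, 4, 7, 5, 1, 4], [5, 6, 4, 2, 2, 4, 4, 6, 0, 4, 0, 4, 0, 3]])) := gens.words TU5ok tw5
theorem cS5 : Nat.card (wsub 4 p [[4, 3, 5, 1, 5, 1, 5, 7, 4, 1, 3, 4, 7, 5, 1, 4], [5, 6, 4, 2, 2, 4, 4, 6, 0, 4, 0, 4, 0, 3]]) = 1008 :=
  (done LyM.pres).card_S' (LyS.exact LyM.pres LyM.top LyK.lb) (x := (5, [[4, 3, 5, 1, 5, 1, 5, 7, 4, 1, 3, 4, 7, 5, 1, 4], [5, 6, 4, 2, 2, 4, 4, 6, 0, 4, 0, 4, 0, 3]], 1008)) 4 rfl (by norm_num)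
theorem e3 : wsub 4 p Ly3906.BW = gsub 3 p := wsub_eq_gsub p (by decide +kernel) (by decide +kernel)
theorem pres3 : Pres 3 0 Ly3125.RL p := Ly3906.presP.restrict (H := [([], 0, true), ([], 1, true), ([], 2, true), ([], 3, true), ([], 4, true), ([], 5, true), ([], 6, true), ([], 7, true), ([], 8, true), ([], 9, true), ([], 10, true), ([], 11, true), ([], 12, true), ([], 13, true), ([], 14, true), ([], 15, true), ([], 16, true), ([], 17, true), ([], 18, true), ([], 19, true), ([], 20, true), ([], 21, true), ([], 22, true)]) (by decide +kernel)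
theorem hc4 : 5859000000 ∣ Nat.card (gsub 4 p) := by
  rw [gsub_lift, Subgroup.card_top]; exact Ly3906.lbP
theorem hc3 : 1500000 ∣ Nat.card (gsub 3 p) :=
  e3 ▸ (card_of_index (M := 1500000) Ly3906.cardP Ly3906.cert.self.index (by norm_num)).symm.dvd
theorem e2 : wsub 3 p Ly3125.BW = gsub 2 p := wsub_eq_gsub p (by decide +kernel) (by decide +kernel)
theorem e2' : wsub 3 p Ly3125.BW = wsub 4 p [[0], [2]] := (wsub_lt p (by decide +kernel)).symm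
theorem enz1 : X.Enum (wsub 2 (wv 4 p [[0, 3, 5, 1, 3, 3, 5, 3, 5, 1], [5, 0, 5, 0, 5, 0, 2, 4, 0, 3]]) [[3, 0, 3, 0, 0, 3], [0, 0, 2, 1, 2, 2, 0, 2, 2, 1], [0, 2, 1, 2, 1, 3, 3, 1, 3, 3]]) TLz1 := gU1.enum eaz1 ebz1 ecz1
theorem clsz1 : LyW.Y.Cls 4 p (gsub 5 (LyM.X.gen TK)) (ev (atm 4 p) [0, 0, 0, 0]) (1, [[0, 3, 5, 1, 3, 3, 5, 3, 5, 1], [5, 0, 5, 0, 5, 0, 2, 4, 0, 3]], 300000) :=
  Or.inr (gens.classes (wsub_le_gsub 2 _ _) enz1 (by norm_num)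
    (not_dvd_relIndex (wsub_le_gsub 2 _ _) cS1 (enz1.card edz1) (by norm_num)) eez1 LyW.witz1)
theorem enz3 : X.Enum (wsub 2 (wv 4 p [[6, 1, 4, 3, 3, 4, 6, 4, 0, 5, 0, 4, 3, 6], [5, 7, 5, 0, 5, 0, 4, 6, 3, 5, 5, 2, 7]]) [[0, 0, 2, 1, 3], [0, 0, 0, 3, 0, 3, 0, 3], [1, 1, 2, 1, 1, 2]]) TLz3 := gU3.enum eaz3 ebz3 ecz3
theorem clsz3 : LyW.Y.Cls 4 p (gsub 5 (LyM.X.gen TK)) (ev (atm 4 p) [0, 0, 0, 0]) (3, [[6, 1, 4, 3, 3, 4, 6, 4, 0, 5, 0, 4, 3, 6], [5, 7, 5, 0, 5, 0, 4, 6, 3, 5, 5, 2, 7]], 6048) :=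
  Or.inr (gens.classes (wsub_le_gsub 2 _ _) enz3 (by norm_num)
    (not_dvd_relIndex (wsub_le_gsub 2 _ _) cS3 (enz3.card edz3) (by norm_num)) eez3 LyW.witz3)
theorem enz4 : X.Enum (wsub 2 (wv 4 p [[3, 3, 0, 4, 7, 3, 0, 2, 4, 2, 1, 5, 2, 5, 6], [4, 6, 5, 5, 1, 5, 1, 3, 3, 1, 2, 7, 5, 5, 7]]) [[0, 2, 2, 1, 1], [2, 2, 0, 2], [1, 2, 1, 1, 2], [0, 2, 1, 2]]) TLz4 := gU4.enum eaz4 ebz4 ecz4
theorem clsz4 : LyW.Y.Cls 4 p (gsub 5 (LyM.X.gen TK)) (ev (atm 4 p) [0, 0, 0, 0]) (4, [[3, 3, 0, 4, 7, 3, 0, 2, 4, 2, 1, 5, 2, 5, 6], [4, 6, 5, 5, 1, 5, 1, 3, 3, 1, 2, 7, 5, 5, 7]], 2880) :=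
  Or.inr (gens.classes (wsub_le_gsub 2 _ _) enz4 (by norm_num)
    (not_dvd_relIndex (wsub_le_gsub 2 _ _) cS4 (enz4.card edz4) (by norm_num)) eez4 LyW.witz4)
theorem enz5 : X.Enum (wsub 2 (wv 4 p [[4, 3, 5, 1, 5, 1, 5, 7, 4, 1, 3, 4, 7, 5, 1, 4], [5, 6, 4, 2, 2, 4, 4, 6, 0, 4, 0, 4, 0, 3]]) [[0, 3, 3, 0, 3, 3, 3, 0], [0, 2, 0, 2, 0, 2]]) TLz5 := gU5.enum eaz5 ebz5 ecz5
theorem clsz5 : LyW.Y.Cls 4 p (gsub 5 (LyM.X.gen TK)) (ev (atm 4 p) [0, 0, 0, 0]) (5, [[4, 3, 5, 1, 5, 1, 5, 7, 4, 1, 3, 4, 7, 5, 1, 4], [5, 6, 4, 2, 2, 4, 4, 6, 0, 4, 0, 4, 0, 3]], 1008) :=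
  Or.inr (gens.classes (wsub_le_gsub 2 _ _) enz5 (by norm_num)
    (not_dvd_relIndex (wsub_le_gsub 2 _ _) cS5 (enz5.card edz5) (by norm_num)) eez5 LyW.witz5)
theorem ez : (ev (atm 4 p) [0, 0, 0, 0]) = ev (atm 3 p) [0, 0, 0, 0] := ev_atm_lt (by norm_num) p (by decide)
theorem c3z : ∀ y ∈ wsub 4 p Ly3906.BW, y * (ev (atm 4 p) [0, 0, 0, 0]) = (ev (atm 4 p) [0, 0, 0, 0]) * y → y ∈ wsub 4 p [[0], [2], [5, 1, 5, 0, 4, 1, 4, 0], [6]] := by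
  rw [e3, ez]
  exact Ly3125.Z.cent pres3 hc3 ((wsub_lt (N := 4) p (by decide +kernel)).symm.le.trans (wsub_mono (by decide +kernel)))
    (by rw [e2, ev_atm_lt (n := 2) (by norm_num) p (by decide)]; exact ev_atm_mem 2 p _)
    (ez ▸ gens.comm_words cmz) (fun _ hx _ => wsub_mono (by decide +kernel) (e2' ▸ hx))
theorem c4z : ∀ y ∈ gsub 4 p, y * (ev (atm 4 p) [0, 0, 0, 0]) = (ev (atm 4 p) [0, 0, 0, 0]) * y → y ∈ wsub 4 p [[0], [2], [5, 1, 5, 0, 4, 1, 4, 0], [6]] :=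
  Ly3906.Z.cent Ly3906.presP hc4 le_rfl (e3 ▸ ez ▸ ev_atm_mem 3 p _) (gens.comm_words cmz) c3z
    (gens.bad Ly3906.normA bad)
theorem centz : Subgroup.centralizer {LyM.X.el gt} = (gsub 5 (LyM.X.gen TK)) := by
  rw [← LyW.elz]
  exact (done LyM.pres).cent (gtop LyM.pres LyM.top) (LyS.exact LyM.pres LyM.top LyK.lb)
    (LyW.elz ▸ cK.comm)
    (fun u hu => LyW.subz ⟨u, c4z u (gsub_lift 4 Ly3906.fP ▸ Subgroup.mem_top u) hu, rfl⟩)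
    (AllP.cons (Or.inl rfl) (AllP.cons clsz1 (AllP.cons clsz3 (AllP.cons clsz4 (AllP.cons clsz5 (AllP.nil))))))
theorem enx1 : X.Enum (wsub 2 (wv 4 p [[0, 3, 5, 1, 3, 3, 5, 3, 5, 1], [5, 0, 5, 0, 5, 0, 2, 4, 0, 3]]) [[0, 0, 2, 1, 3, 3, 0, 3, 0, 0]]) TLx1 := gU1.enum eax1 ebx1 ecx1
theorem clsx1 : LyW.Y.Cls 4 p (gsub 4 (LyM.X.gen TC)) (ev (atm 4 p) [1, 3, 0, 2]) (1, [[0, 3, 5, 1, 3, 3, 5, 3, 5, 1], [5, 0, 5, 0, 5, 0, 2, 4, 0, 3]], 300000) :=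
  Or.inr (gens.classes (wsub_le_gsub 2 _ _) enx1 (by norm_num)
    (not_dvd_relIndex (wsub_le_gsub 2 _ _) cS1 (enx1.card edx1) (by norm_num)) eex1 LyW.witx1)
theorem enx3 : X.Enum (wsub 2 (wv 4 p [[6, 1, 4, 3, 3, 4, 6, 4, 0, 5, 0, 4, 3, 6], [5, 7, 5, 0, 5, 0, 4, 6, 3, 5, 5, 2, 7]]) [[1, 3, 1, 2, 1, 2, 2], [0, 3, 1, 2, 1, 2, 0], [0, 3, 0, 2]]) TLx3 := gU3.enum eax3 ebx3 ecx3
theorem clsx3 : LyW.Y.Cls 4 p (gsub 4 (LyM.X.gen TC)) (ev (atm 4 p) [1, 3, 0, 2]) (3, [[6, 1, 4, 3, 3, 4, 6, 4, 0, 5, 0, 4, 3, 6], [5, 7, 5, 0, 5, 0, 4, 6, 3, 5, 5, 2, 7]], 6048) :=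
  Or.inr (gens.classes (wsub_le_gsub 2 _ _) enx3 (by norm_num)
    (not_dvd_relIndex (wsub_le_gsub 2 _ _) cS3 (enx3.card edx3) (by norm_num)) eex3 LyW.witx3)
theorem enx4 : X.Enum (wsub 2 (wv 4 p [[3, 3, 0, 4, 7, 3, 0, 2, 4, 2, 1, 5, 2, 5, 6], [4, 6, 5, 5, 1, 5, 1, 3, 3, 1, 2, 7, 5, 5, 7]]) [[0, 3, 1, 2, 0, 3, 1, 2], [0, 0, 3, 3, 0, 0, 3]]) TLx4 := gU4.enum eax4 ebx4 ecx4
theorem clsx4 : LyW.Y.Cls 4 p (gsub 4 (LyM.X.gen TC)) (ev (atm 4 p) [1, 3, 0, 2]) (4, [[3, 3, 0, 4, 7, 3, 0, 2, 4, 2, 1, 5, 2, 5, 6], [4, 6, 5, 5, 1, 5, 1, 3, 3, 1, 2, 7, 5, 5, 7]], 2880) :=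
  Or.inr (gens.classes (wsub_le_gsub 2 _ _) enx4 (by norm_num)
    (not_dvd_relIndex (wsub_le_gsub 2 _ _) cS4 (enx4.card edx4) (by norm_num)) eex4 LyW.witx4)
theorem enx5 : X.Enum (wsub 2 (wv 4 p [[4, 3, 5, 1, 5, 1, 5, 7, 4, 1, 3, 4, 7, 5, 1, 4], [5, 6, 4, 2, 2, 4, 4, 6, 0, 4, 0, 4, 0, 3]]) [[0, 2, 0, 3, 3, 0, 3, 3, 0, 3], [2, 0, 3, 0, 2]]) TLx5 := gU5.enum eax5 ebx5 ecx5
theorem clsx5 : LyW.Y.Cls 4 p (gsub 4 (LyM.X.gen TC)) (ev (atm 4 p) [1, 3, 0, 2]) (5, [[4, 3, 5, 1, 5, 1, 5, 7, 4, 1, 3, 4, 7, 5, 1, 4], [5, 6, 4, 2, 2, 4, 4, 6, 0, 4, 0, 4, 0, 3]], 1008) :=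
  Or.inr (gens.classes (wsub_le_gsub 2 _ _) enx5 (by norm_num)
    (not_dvd_relIndex (wsub_le_gsub 2 _ _) cS5 (enx5.card edx5) (by norm_num)) eex5 LyW.witx5)
theorem ex : (ev (atm 4 p) [1, 3, 0, 2]) = ev (atm 3 p) [1, 3, 0, 2] := ev_atm_lt (by norm_num) p (by decide)
theorem c3x : ∀ y ∈ wsub 4 p Ly3906.BW, y * (ev (atm 4 p) [1, 3, 0, 2]) = (ev (atm 4 p) [1, 3, 0, 2]) * y → y ∈ wsub 4 p [[2, 0, 3, 0, 3, 3, 1, 3], [3, 4, 3, 4, 2, 2], [6]] := by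
  rw [e3, ex]
  exact Ly3125.X.cent pres3 hc3 ((wsub_lt (N := 4) p (by decide +kernel)).symm.le.trans (wsub_mono (by decide +kernel)))
    (by rw [e2, ev_atm_lt (n := 2) (by norm_num) p (by decide)]; exact ev_atm_mem 2 p _)
    (ex ▸ gens.comm_words cmx) (fun y hy h => wsub_mono (by decide +kernel) (gens.cen ca cb cc y (e2' ▸ hy) (ex ▸ h)))
theorem c4x : ∀ y ∈ gsub 4 p, y * (ev (atm 4 p) [1, 3, 0, 2]) = (ev (atm 4 p) [1, 3, 0, 2]) * y → y ∈ wsub 4 p [[2, 0, 3, 0, 3, 3, 1, 3], [3, 4, 3, 4, 2, 2], [6]] :=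
  Ly3906.X.cent Ly3906.presP hc4 le_rfl (e3 ▸ ex ▸ ev_atm_mem 3 p _) (gens.comm_words cmx) c3x
theorem centx : Subgroup.centralizer {LyM.X.el gx} = (gsub 4 (LyM.X.gen TC)) := by
  rw [← LyW.elx]
  exact (done LyM.pres).cent (gtop LyM.pres LyM.top) (LyS.exact LyM.pres LyM.top LyK.lb)
    (LyW.elx ▸ cC.comm)
    (fun u hu => LyW.subx ⟨u, c4x u (gsub_lift 4 Ly3906.fP ▸ Subgroup.mem_top u) hu, rfl⟩)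
    (AllP.cons (Or.inl rfl) (AllP.cons clsx1 (AllP.cons clsx3 (AllP.cons clsx4 (AllP.cons clsx5 (AllP.nil))))))

end Cfsg.Agent.Spor.LyB
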